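import Mathlib
import Cfsg.Agent.Lib.Solv.Huppert
import Cfsg.Agent.Lib.Solv.Zipper

/-!
Core-free maximal subgroups and primitive solvable groups.
-/

set_option autoImplicit false

namespace H21

open Subgroup
open scoped Pointwise commutatorElement

universe u

variable {G : Type*} [Group G]

theorem eq_bot_of_normal_of_le_corefree {U K : Subgroup G} (hcore : U.normalCore = ⊥) [K.Normal]
    (h : K ≤ U) : K = ⊥ :=
  le_bot_iff.1 (hcore ▸ Subgroup.normal_le_normalCore.2 h)

theorem sup_eq_top_of_isCoatom_of_not_le {U N : Subgroup G} (hU : IsCoatom U) (h : ¬ N ≤ U) :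
    U ⊔ N = ⊤ :=
  hU.2 _ (lt_of_le_of_ne le_sup_left fun he => h (he ▸ le_sup_right))

theorem sup_eq_top_of_corefree {U N : Subgroup G} (hU : IsCoatom U) (hcore : U.normalCore = ⊥)
    [N.Normal] (hN : N ≠ ⊥) : U ⊔ N = ⊤ :=
  sup_eq_top_of_isCoatom_of_not_le hU fun h => hN (eq_bot_of_normal_of_le_corefree hcore h)

theorem centralizer_inf_eq_bot_of_corefree {U N : Subgroup G} (hU : IsCoatom U)
    (hcore : U.normalCore = ⊥) [N.Normal] (hN : N ≠ ⊥) : centralizer (N : Set G) ⊓ U = ⊥ := by
  haveI : (centralizer (N : Set G) ⊓ U).Normal :=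
    normal_of_sup_eq_top (sup_eq_top_of_corefree hU hcore hN)
      (H2.le_normalizer_inf le_normalizer_of_normal le_normalizer)
      ((Subgroup.le_centralizer_iff.1 inf_le_left).trans (centralizer_le_normalizer _))
  exact eq_bot_of_normal_of_le_corefree hcore inf_le_right

theorem centralizer_minimal_of_corefree {U N : Subgroup G} (hU : IsCoatom U)
    (hcore : U.normalCore = ⊥) [N.Normal] (hN : N ≠ ⊥) (K : Subgroup G) (hK : K.Normal)
    (hKC : K ≤ centralizer (N : Set G)) : K = ⊥ ∨ K = centralizer (N : Set G) := by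
  refine or_iff_not_imp_left.2 fun hK0 => ?_
  have h1 := H3.sup_inf_assoc_of_le_normalizer (N := K) (K := U) le_normalizer_of_normal hKC
  rw [sup_comm, sup_eq_top_of_corefree hU hcore hK0, top_inf_eq, inf_comm,
    centralizer_inf_eq_bot_of_corefree hU hcore hN, sup_bot_eq] at h1
  exact h1.symm

theorem isComplement'_of_normal_of_inf_eq_bot_of_sup_eq_top {N U : Subgroup G} [N.Normal]
    (h1 : N ⊓ U = ⊥) (h2 : N ⊔ U = ⊤) : IsComplement' N U :=
  Subgroup.isComplement'_of_disjoint_and_mul_eq_univ (disjoint_iff.2 h1)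
    (by rw [← Subgroup.normal_mul, h2, Subgroup.coe_top])

/-- Two subgroups meeting `N` trivially with the same product with `N` are isomorphic. -/
theorem nonempty_mulEquiv_of_sup_eq {N X Y : Subgroup G} [N.Normal] (hX : X ⊓ N = ⊥)
    (hY : Y ⊓ N = ⊥) (h : X ⊔ N = Y ⊔ N) : Nonempty (X ≃* Y) := by
  have key : ∀ Z : Subgroup G, Z ⊓ N = ⊥ →
      Nonempty (Z ≃* (Z ⊔ N).map (QuotientGroup.mk' N)) := by
    intro Z hZ
    have hinj : Function.Injective ((QuotientGroup.mk' N).comp Z.subtype) := by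
      rw [injective_iff_map_eq_one]
      intro a ha
      have : (a : G) ∈ Z ⊓ N := ⟨a.2, (QuotientGroup.eq_one_iff _).1 ha⟩
      rw [hZ] at this
      exact Subtype.ext this
    refine ⟨(MonoidHom.ofInjective hinj).trans (MulEquiv.subgroupCongr ?_)⟩
    rw [MonoidHom.range_comp, Subgroup.range_subtype, Subgroup.map_sup, QuotientGroup.map_mk'_self,
      sup_bot_eq]
  obtain ⟨e1⟩ := key X hX
  obtain ⟨e2⟩ := key Y hY
  exact ⟨e1.trans ((MulEquiv.subgroupCongr (by rw [h])).trans e2.symm)⟩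

/-- An abelian minimal normal subgroup of a group with a core-free maximal subgroup is
self-centralizing. -/
theorem centralizer_eq_of_corefree {U M : Subgroup G} (hU : IsCoatom U)
    (hcore : U.normalCore = ⊥) [hM : M.Normal] [IsMulCommutative M] (hM0 : M ≠ ⊥) :
    centralizer (M : Set G) = M :=
  ((centralizer_minimal_of_corefree hU hcore hM0 M hM (Subgroup.le_centralizer M)).resolve_left
    hM0).symm

theorem normalizer_eq_of_corefree {U X : Subgroup G} (hU : IsCoatom U) (hcore : U.normalCore = ⊥)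
    (hX : X ≤ U) (hX0 : X ≠ ⊥) (hn : U ≤ normalizer (X : Set G)) : normalizer (X : Set G) = U := by
  by_contra hne
  have := hU.2 _ (lt_of_le_of_ne hn (Ne.symm hne))
  haveI := Subgroup.normalizer_eq_top_iff.1 this
  exact hX0 (eq_bot_of_normal_of_le_corefree hcore hX)

/-- Core-free maximal subgroups of a finite solvable group are conjugate. -/
theorem exists_conj_of_corefree_coatom [Finite G] [Group.IsSolvable G] {U V : Subgroup G}
    (hU : IsCoatom U) (hV : IsCoatom V) (hUc : U.normalCore = ⊥) (hVc : V.normalCore = ⊥) :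
    ∃ g : G, MulAut.conj g • U = V := by
  haveI : Nontrivial G := by
    by_contra h
    rw [not_nontrivial_iff_subsingleton] at h
    exact hU.1 (Subsingleton.elim _ _)
  obtain ⟨M, p, hp, hM, hM0, -, hMc, -, hMp, hmin⟩ :=
    H1.exists_elementary_abelian_normal_le (⊤ : Subgroup G) top_ne_bot inferInstance
  have hC := centralizer_eq_of_corefree hU hUc hM0
  have hMU : M ⊓ U = ⊥ := hC ▸ centralizer_inf_eq_bot_of_corefree hU hUc hM0
  have hMV : M ⊓ V = ⊥ := hC ▸ centralizer_inf_eq_bot_of_corefree hV hVc hM0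
  have hUM := sup_eq_top_of_corefree hU hUc hM0
  have hVM := sup_eq_top_of_corefree hV hVc hM0
  by_cases hMt : M = ⊤
  · refine ⟨1, ?_⟩
    rw [hMt, top_inf_eq] at hMU hMV
    rw [hMU, hMV, map_one, one_smul]
  haveI : Nontrivial (G ⧸ M) := QuotientGroup.nontrivial_iff.2 hMt
  obtain ⟨L', q, hq, hL', hL'0, -, -, -, hL'q, -⟩ :=
    H1.exists_elementary_abelian_normal_le (⊤ : Subgroup (G ⧸ M)) top_ne_bot inferInstance
  set L := L'.comap (QuotientGroup.mk' M) with hL
  have hML : M ≤ L := fun x hx => by simp [hL, (QuotientGroup.eq_one_iff x).2 hx]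
  have hMLne : M ≠ L := by
    intro h
    apply hL'0
    rw [← Subgroup.map_comap_eq_self_of_surjective (QuotientGroup.mk'_surjective M) L', ← hL, ← h,
      QuotientGroup.map_mk'_self]
  haveI := Fact.mk hp
  haveI := Fact.mk hq
  have hpq : p ≠ q := by
    rintro rfl
    have hLp : IsPGroup p L := hL'q.comap_of_ker_isPGroup _ (by rwa [QuotientGroup.ker_mk'])
    exact hMLne (le_antisymm hML (hC ▸ le_centralizer_of_minNormal_le hLp hML hmin))
  have hLc : Nat.card L = Nat.card L' * Nat.card M := H1.card_comap_mk' M L'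
  have key : ∀ W : Subgroup G, M ⊓ W = ⊥ → W ⊔ M = ⊤ →
      M ⊔ W ⊓ L = L ∧ Nat.card (W ⊓ L : Subgroup G) = Nat.card L' := by
    intro W h1 h2
    have h3 : M ⊔ W ⊓ L = L := by
      rw [← H3.sup_inf_assoc_of_le_normalizer le_normalizer_of_normal hML, sup_comm, h2, top_inf_eq]
    refine ⟨h3, ?_⟩
    have h4 := H3.card_sup_of_inf_eq_bot (N := M) (K := W ⊓ L) le_normalizer_of_normal
      (by rw [← inf_assoc, h1, bot_inf_eq])
    rw [h3, hLc, mul_comm] at h4
    exact (Nat.eq_of_mul_eq_mul_left Nat.card_pos h4).symm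
  obtain ⟨hU1, hU2⟩ := key U hMU hUM
  obtain ⟨hV1, hV2⟩ := key V hMV hVM
  obtain ⟨e, -, he⟩ := H3.exists_conj_eq_of_coprime (N := M) (H := U ⊓ L) (K := V ⊓ L)
    le_normalizer_of_normal (hV1.symm ▸ inf_le_right) (hU2.trans hV2.symm)
    (hV2 ▸ IsPGroup.coprime_card_of_ne p q hpq M L' hMp hL'q) (Or.inl inferInstance)
  refine ⟨e, ?_⟩
  have hne : ∀ W : Subgroup G, M ⊔ W ⊓ L = L → W ⊓ L ≠ ⊥ := by
    intro W h h0
    rw [h0, sup_bot_eq] at h
    exact hMLne h
  rw [← normalizer_eq_of_corefree hU hUc inf_le_left (hne U hU1)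
      (H2.le_normalizer_inf le_normalizer le_normalizer_of_normal),
    ← H1.normalizer_conj_smul, he,
    normalizer_eq_of_corefree hV hVc inf_le_left (hne V hV1)
      (H2.le_normalizer_inf le_normalizer le_normalizer_of_normal)]

section Action

variable {Ω : Type*} [MulAction G Ω]

theorem isPretransitive_of_normal_of_ne_bot [FaithfulSMul G Ω]
    (hprim : MulAction.IsPreprimitive G Ω) (M : Subgroup G) [M.Normal] (hM : M ≠ ⊥) :
    MulAction.IsPretransitive M Ω := by
  apply MulAction.IsQuasiPreprimitive.isPretransitive_of_normal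
  intro h
  apply hM
  rw [eq_bot_iff]
  intro m hm
  rw [Subgroup.mem_bot]
  apply eq_of_smul_eq_smul (α := Ω)
  intro ω
  have : ω ∈ MulAction.fixedPoints M Ω := h ▸ Set.mem_univ ω
  rw [one_smul]
  exact this ⟨m, hm⟩

theorem eq_one_of_centralizes_of_smul_eq [FaithfulSMul G Ω] (M : Subgroup G)
    [MulAction.IsPretransitive M Ω] {x : G} (hx : x ∈ centralizer (M : Set G)) {ω : Ω}
    (h : x • ω = ω) : x = 1 := by
  apply eq_of_smul_eq_smul (α := Ω)
  intro τ
  obtain ⟨m, rfl⟩ := MulAction.exists_smul_eq M ω τ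
  rw [one_smul, Subgroup.smul_def, ← mul_smul, ← Subgroup.mem_centralizer_iff.1 hx m m.2, mul_smul,
    h]

end Action

theorem exists_eq_sup_zpowers_of_isCyclic_quotient {A B : Subgroup G} (hAB : A ≤ B)
    [(A.subgroupOf B).Normal] (h : IsCyclic (B ⧸ A.subgroupOf B)) :
    ∃ g ∈ B, B = A ⊔ zpowers g := by
  obtain ⟨y, hy⟩ := h.exists_generator
  obtain ⟨g, rfl⟩ := QuotientGroup.mk_surjective y
  refine ⟨g, g.2, le_antisymm (fun x hx => ?_) (sup_le hAB (by simp))⟩
  obtain ⟨k, hk⟩ := mem_zpowers_iff.1 (hy ((⟨x, hx⟩ : B) : B ⧸ A.subgroupOf B))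
  rw [← QuotientGroup.mk_zpow, QuotientGroup.eq] at hk
  have h1 : ((g : G) ^ k)⁻¹ * x ∈ A := hk
  have : x = (g : G) ^ k * (((g : G) ^ k)⁻¹ * x) := by group
  rw [this, sup_comm]
  exact Subgroup.mul_mem_sup (zpow_mem_zpowers _ k) h1

theorem exists_ofFn_update_prod {N : Subgroup G} [hN : N.Normal] :
    ∀ (t : ℕ) (s : Fin t → G) (j : Fin t) (n : G), n ∈ N → ∃ n' ∈ N,
      (List.ofFn (Function.update s j (s j * n'))).prod = (List.ofFn s).prod * n := by
  intro t
  induction t with
  | zero => exact fun s j => j.elim0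
  | succ t ih =>
    intro s j n hn
    refine Fin.cases ?_ (fun i => ?_) j
    · refine ⟨(List.ofFn fun i => s i.succ).prod * n * ((List.ofFn fun i => s i.succ).prod)⁻¹,
        hN.conj_mem n hn _, ?_⟩
      rw [List.ofFn_succ, List.ofFn_succ, List.prod_cons, List.prod_cons, Function.update_self]
      simp only [ne_eq, Fin.succ_ne_zero, not_false_eq_true, Function.update_of_ne]
      group
    · obtain ⟨n', hn', h⟩ := ih (fun k => s k.succ) i n hn
      refine ⟨n', hn', ?_⟩
      rw [List.ofFn_succ, List.ofFn_succ, List.prod_cons, List.prod_cons,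
        Function.update_of_ne (Fin.succ_ne_zero i).symm, mul_assoc, ← h]
      congr 3
      ext k
      by_cases hk : k = i
      · subst hk; simp
      · rw [Function.update_of_ne hk, Function.update_of_ne (by simpa using hk)]

end H21
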